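import Mathlib

/-!
# A square matrix over a field is conjugate to its transpose
-/

namespace CfsgLib.TransposeConj

open Polynomial Module

variable {K : Type*} [Field K]

/-- A functional on `K[X]/(g)` whose kernel contains no nonzero ideal. -/
lemma exists_functional (g : K[X]) (hg : g ≠ 0) :
    ∃ μ : (K[X] ⧸ Ideal.span {g}) →ₗ[K] K,
      ∀ x, x ≠ 0 → ∃ y, μ (x * y) ≠ 0 := by
  have hsp : Ideal.span {g * C g.leadingCoeff⁻¹} = Ideal.span {g} :=
    Ideal.span_singleton_mul_right_unit
      (isUnit_C.2 (isUnit_iff_ne_zero.2 (inv_ne_zero (leadingCoeff_ne_zero.2 hg)))) g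
  set h := g * C g.leadingCoeff⁻¹ with hh
  have hm : h.Monic := monic_mul_leadingCoeff_inv hg
  set d := h.natDegree with hd
  let φ : K[X] →ₗ[K] K := (lcoeff K (d - 1)).comp (modByMonicHom h)
  have hker : ∀ f ∈ Ideal.span {g}, φ f = 0 := by
    intro f hf
    rw [← hsp, Ideal.mem_span_singleton] at hf
    simp [φ, (modByMonic_eq_zero_iff_dvd hm).2 hf]
  refine ⟨Submodule.liftQ ((Ideal.span {g}).restrictScalars K) φ hker ∘ₗ
    (Submodule.Quotient.restrictScalarsEquiv K (Ideal.span {g})).symm.toLinearMap, ?_⟩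
  intro x hx
  obtain ⟨f, rfl⟩ := Ideal.Quotient.mk_surjective x
  have hne : f %ₘ h ≠ 0 := by
    rw [Ne, modByMonic_eq_zero_iff_dvd hm, ← Ideal.mem_span_singleton, hsp]
    exact fun hc => hx (Ideal.Quotient.eq_zero_iff_mem.2 hc)
  have hh1 : h ≠ 1 := by
    intro h1
    rw [h1, modByMonic_one] at hne
    exact hne rfl
  have hlt : (f %ₘ h).natDegree < d := natDegree_modByMonic_lt f hm hh1
  refine ⟨Ideal.Quotient.mk _ (X ^ (d - 1 - (f %ₘ h).natDegree)), ?_⟩
  show φ (f * X ^ (d - 1 - (f %ₘ h).natDegree)) ≠ 0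
  set e := d - 1 - (f %ₘ h).natDegree with he
  have hmod : (f * X ^ e) %ₘ h = (f %ₘ h) * X ^ e := by
    refine Eq.trans ?_ ((modByMonic_eq_self_iff hm).2 (show ((f %ₘ h) * X ^ e).degree < h.degree by
      rw [degree_mul, degree_X_pow, degree_eq_natDegree hne, degree_eq_natDegree hm.ne_zero]
      exact_mod_cast (show (f %ₘ h).natDegree + e < h.natDegree by omega)))
    apply modByMonic_eq_of_dvd_sub hm
    refine ⟨(f /ₘ h) * X ^ e, ?_⟩
    nth_rewrite 1 [← modByMonic_add_div f h]
    ring
  show ((f * X ^ e) %ₘ h).coeff (d - 1) ≠ 0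
  rw [hmod, show d - 1 = (f %ₘ h).natDegree + e by omega, coeff_mul_X_pow]
  exact leadingCoeff_ne_zero.2 hne

/-- A nondegenerate bilinear form for which `T` is self-adjoint. -/
theorem exists_selfAdjoint_form {V : Type*} [AddCommGroup V] [Module K V] [FiniteDimensional K V]
    (T : Module.End K V) :
    ∃ B : LinearMap.BilinForm K V, (∀ v, (∀ w, B v w = 0) → v = 0) ∧
      ∀ v w, B (T v) w = B v (T w) := by
  classical
  obtain ⟨ι, _, p, hp, e, ⟨Φ⟩⟩ := Module.equiv_directSum_of_isTorsion
    (Module.AEval.isTorsion_of_finiteDimensional K V T)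
  choose μ hμ using fun i => exists_functional (p i ^ e i) (pow_ne_zero _ (hp i).ne_zero)
  let ψ : V → ∀ i, K[X] ⧸ Ideal.span {p i ^ e i} := fun v i => Φ (Module.AEval'.of T v) i
  have hadd : ∀ u v i, ψ (u + v) i = ψ u i + ψ v i := fun u v i => by
    simp only [ψ, map_add]; rfl
  have hsmul : ∀ (c : K) v i, ψ (c • v) i = c • ψ v i := by
    intro c v i
    have h1 : Module.AEval'.of T (c • v) = (C c : K[X]) • Module.AEval'.of T v := by
      rw [map_smul, Polynomial.C_eq_algebraMap, algebraMap_smul]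
    show Φ (Module.AEval'.of T (c • v)) i = c • Φ (Module.AEval'.of T v) i
    rw [h1, map_smul, Polynomial.C_eq_algebraMap, algebraMap_smul]
    rfl
  have hT : ∀ v i, ψ (T v) i = (X : K[X]) • ψ v i := by
    intro v i
    show Φ (Module.AEval'.of T (T v)) i = (X : K[X]) • Φ (Module.AEval'.of T v) i
    rw [← Module.AEval'.X_smul_of, map_smul]
    rfl
  let B : LinearMap.BilinForm K V := LinearMap.mk₂ K (fun v w => ∑ i, μ i (ψ v i * ψ w i))
    (fun a b w => by simp only [hadd, add_mul, map_add, Finset.sum_add_distrib])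
    (fun c a w => by simp only [hsmul, smul_mul_assoc, map_smul, Finset.smul_sum])
    (fun a v w => by simp only [hadd, mul_add, map_add, Finset.sum_add_distrib])
    (fun c a w => by simp only [hsmul, mul_smul_comm, map_smul, Finset.smul_sum])
  refine ⟨B, fun v hv => ?_, fun v w => ?_⟩
  · apply (Module.AEval'.of T).injective
    apply Φ.injective
    rw [map_zero, map_zero]
    refine DFinsupp.ext fun i => ?_
    by_contra hne
    obtain ⟨y, hy⟩ := hμ i (ψ v i) hne
    obtain ⟨w, hw⟩ := (Module.AEval'.of T).surjective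
      (Φ.symm (DirectSum.of (fun i => K[X] ⧸ K[X] ∙ p i ^ e i) i y))
    apply hy
    have hsum := hv w
    simp only [B, LinearMap.mk₂_apply] at hsum
    rw [Finset.sum_eq_single i] at hsum
    · simpa [ψ, hw] using hsum
    · intro j _ hj
      have : ψ w j = 0 := by
        show Φ (Module.AEval'.of T w) j = 0
        rw [hw, LinearEquiv.apply_symm_apply, DirectSum.of_eq_of_ne _ _ _ hj]
      simp [this]
    · simp
  · simp only [B, LinearMap.mk₂_apply, hT, smul_mul_assoc, mul_smul_comm]

/-- A square matrix is conjugate to its transpose. -/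
theorem isConj_transpose {n : Type*} [Fintype n] [DecidableEq n] (A : Matrix n n K) :
    IsConj A A.transpose := by
  obtain ⟨B, hB, hadj⟩ := exists_selfAdjoint_form (Matrix.toLin' A : Module.End K (n → K))
  set M := LinearMap.BilinForm.toMatrix' B
  have hM : IsUnit M.det := by
    rw [isUnit_iff_ne_zero]
    intro h0
    obtain ⟨v, hv, hv0⟩ := Matrix.exists_vecMul_eq_zero_iff.2 h0
    apply hv
    refine hB v fun w => ?_
    rw [← Matrix.toBilin'_toMatrix' B, Matrix.toBilin'_apply', Matrix.dotProduct_mulVec]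
    show Matrix.vecMul v M ⬝ᵥ w = 0
    rw [hv0, zero_dotProduct]
  have hcomp : M * A = A.transpose * M := by
    have h1 : B.compLeft (Matrix.toLin' A) = B.compRight (Matrix.toLin' A) :=
      LinearMap.ext fun v => LinearMap.ext fun w => hadj v w
    have h2 := congrArg LinearMap.BilinForm.toMatrix' h1
    rw [LinearMap.BilinForm.toMatrix'_compLeft, LinearMap.BilinForm.toMatrix'_compRight,
      LinearMap.toMatrix'_toLin'] at h2
    exact h2.symm
  exact ⟨((Matrix.isUnit_iff_isUnit_det _).2 hM).unit, hcomp⟩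

end CfsgLib.TransposeConj
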